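import Groth.Agent.FibDesc.K781.Defs2

/-!
# The cartesian presheaf on spaces over `S` attached to an abelian sheaf on `S`

`exists_cart`: for an abelian sheaf `L` on `S` there is a presheaf `P` on `Over S` all of whose stalk
restriction maps are bijective and whose restriction to the opens of `S` sheafifies to `L`.
`P T` is the group of the families of germs `t ↦ a t ∈ L_{f t}` which are locally on `T` given by a
section of `L` over an open subset of `S`.
-/

set_option autoImplicit false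
set_option backward.isDefEq.respectTransparency false
set_option backward.isDefEq.respectTransparency.types false

universe u

open CategoryTheory CategoryTheory.Limits Opposite TopologicalSpace K781.God

namespace K753.Cart

variable {S : TopCat.{u}} (L : TopCat.Presheaf AddCommGrpCat.{u} S)

/-- The graph of the structure map. -/
abbrev Gr (T : Over S) : Type u := {p : T.left × S // T.hom p.1 = p.2}

/-- The stalk. -/
noncomputable abbrev Lst (s : S) : AddCommGrpCat.{u} := TopCat.Presheaf.stalk L s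

/-- The families of germs. -/
abbrev Fam (T : Over S) : Type u := ∀ p : Gr T, Lst L p.1.2

/-- The families of germs which are locally given by a section over an open subset of `S`. -/
def IsLoc (T : Over S) (a : Fam L T) : Prop :=
  ∀ t : T.left, ∃ (W : Opens T.left) (_ : t ∈ W) (V : Opens S) (s : L.obj (op V)),
    ∀ p : Gr T, p.1.1 ∈ W → ∃ h : p.1.2 ∈ V, a p = TopCat.Presheaf.germ L V p.1.2 h s

/-- The group of sections. -/
def sec (T : Over S) : AddSubgroup (Fam L T) where
  carrier := {a | IsLoc L T a}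
  zero_mem' t := ⟨⊤, trivial, ⊤, 0, fun p _ => ⟨trivial, (map_zero _).symm⟩⟩
  add_mem' {a b} ha hb t := by
    obtain ⟨W, hW, V, s, hs⟩ := ha t
    obtain ⟨W', hW', V', s', hs'⟩ := hb t
    refine ⟨W ⊓ W', ⟨hW, hW'⟩, V ⊓ V', L.map (homOfLE inf_le_left).op s + L.map (homOfLE inf_le_right).op s',
      fun p hp => ?_⟩
    obtain ⟨h1, e1⟩ := hs p hp.1
    obtain ⟨h2, e2⟩ := hs' p hp.2
    refine ⟨⟨h1, h2⟩, ?_⟩
    rw [map_add, TopCat.Presheaf.germ_res_apply, TopCat.Presheaf.germ_res_apply, Pi.add_apply, e1, e2]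
  neg_mem' {a} ha t := by
    obtain ⟨W, hW, V, s, hs⟩ := ha t
    refine ⟨W, hW, V, -s, fun p hp => ?_⟩
    obtain ⟨h1, e1⟩ := hs p hp
    exact ⟨h1, by rw [map_neg, Pi.neg_apply, e1]⟩

variable {L} in
/-- Restriction of families. -/
def res {T T' : Over S} (h : T' ⟶ T) (a : Fam L T) : Fam L T' :=
  fun p => a ⟨(h.left p.1.1, p.1.2), (congr_arg (fun k => k p.1.1) (Over.w h)).trans p.2⟩

variable {L} in
theorem isLoc_res {T T' : Over S} (h : T' ⟶ T) {a : Fam L T} (ha : IsLoc L T a) :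
    IsLoc L T' (res h a) := fun t => by
  obtain ⟨W, hW, V, s, hs⟩ := ha (h.left t)
  exact ⟨(Opens.map h.left).obj W, hW, V, s, fun p hp =>
    hs ⟨(h.left p.1.1, p.1.2), (congr_arg (fun k => k p.1.1) (Over.w h)).trans p.2⟩ hp⟩

/-- The presheaf on spaces over `S`. -/
noncomputable def P : (Over S)ᵒᵖ ⥤ AddCommGrpCat.{u} where
  obj T := AddCommGrpCat.of (sec L T.unop)
  map h := AddCommGrpCat.ofHom
    { toFun := fun a => ⟨res h.unop a.1, isLoc_res h.unop a.2⟩
      map_zero' := rfl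
      map_add' := fun _ _ => rfl }
  map_id _ := rfl
  map_comp _ _ := rfl

variable {L} in
/-- The family of germs of a section. -/
noncomputable def ofSec {T : Over S} {V : Opens S} (hV : ∀ t : T.left, T.hom t ∈ V) (s : L.obj (op V)) :
    (P L).obj (op T) :=
  ⟨fun p => TopCat.Presheaf.germ L V p.1.2 (by rw [← p.2]; exact hV _) s,
    fun t => ⟨⊤, trivial, V, s, fun p _ => ⟨by rw [← p.2]; exact hV _, rfl⟩⟩⟩

theorem isCart : IsCart (P L) := by
  intro T T' h t
  constructor
  · rw [injective_iff_map_eq_zero]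
    intro a ha
    obtain ⟨U, hU, x, rfl⟩ := exists_gm (P L) a
    rw [stRes_gm (P L) h t U hU ((Opens.map h.left).obj U) hU (fun _ hx => hx)] at ha
    obtain ⟨W, hW, hWU, e⟩ := gm_eq_zero (P L) _ _ ha
    -- the value of `x` at `h t` is zero
    obtain ⟨W', hW', V, s, hs⟩ := x.2 ⟨h.left t, hU⟩
    have hg : (sub T U).hom ⟨h.left t, hU⟩ = T.hom (h.left t) := rfl
    obtain ⟨hV, es⟩ := hs ⟨(⟨h.left t, hU⟩, T.hom (h.left t)), rfl⟩ hW'
    have h0 : x.1 ⟨(⟨h.left t, hU⟩, T.hom (h.left t)), rfl⟩ = 0 := by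
      have h1 := congr_arg (fun y : (P L).obj (op (sub T' W)) =>
        y.1 ⟨(⟨t, hW⟩, T.hom (h.left t)), (congr_arg (fun k => k t) (Over.w h)).symm⟩) e
      exact h1
    rw [h0] at es
    have es' : TopCat.Presheaf.germ L V _ hV s = TopCat.Presheaf.germ L V _ hV 0 := by
      rw [map_zero]; exact es.symm
    obtain ⟨V', hV', i1, i2, e'⟩ := TopCat.Presheaf.germ_eq L _ hV hV s 0 es'
    rw [map_zero] at e'
    have hle : im T U W' ⊓ (Opens.map T.hom).obj V' ≤ U := fun y hy => hy.1.1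
    have hmem : h.left t ∈ im T U W' ⊓ (Opens.map T.hom).obj V' := ⟨⟨hU, hW'⟩, hV'⟩
    rw [← gm_res (P L) hle hmem]
    have hx0 : (P L).map (subMap T hle).op x = 0 := by
      apply Subtype.ext
      funext p
      obtain ⟨⟨⟨y, hy⟩, z⟩, hp⟩ := p
      obtain ⟨hz, ez⟩ := hs ⟨(⟨y, hle hy⟩, z), hp⟩ hy.1.2
      refine ez.trans ?_
      have hz' : z ∈ V' := by
        have : T.hom y = z := hp
        rw [← this]
        exact hy.2
      rw [← TopCat.Presheaf.germ_res_apply L i1 z hz' s, e', map_zero]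
      rfl
    rw [hx0, map_zero]
  · intro b
    obtain ⟨U', hU', y, rfl⟩ := exists_gm (P L) b
    obtain ⟨W, hW, V, s, hs⟩ := y.2 ⟨t, hU'⟩
    obtain ⟨hV, es⟩ := hs ⟨(⟨t, hU'⟩, T.hom (h.left t)), (congr_arg (fun k => k t) (Over.w h)).symm⟩ hW
    have hVt : h.left t ∈ (Opens.map T.hom).obj V := hV
    have hle : im T' U' W ≤ U' := fun y hy => hy.1
    have hmem : t ∈ im T' U' W := ⟨hU', hW⟩
    refine ⟨gm (P L) T (h.left t) ((Opens.map T.hom).obj V) hVt (ofSec (fun z => z.2) s), ?_⟩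
    have hmem' : ∀ x, x ∈ im T' U' W → h.left x ∈ (Opens.map T.hom).obj V := by
      intro x hx
      obtain ⟨hz, -⟩ := hs ⟨(⟨x, hx.1⟩, T.hom (h.left x)), (congr_arg (fun k => k x) (Over.w h)).symm⟩ hx.2
      exact hz
    rw [stRes_gm (P L) h t _ hVt (im T' U' W) hmem hmem', ← gm_res (P L) hle hmem]
    congr 1
    apply Subtype.ext
    funext p
    obtain ⟨⟨⟨z, hz⟩, w⟩, hp⟩ := p
    obtain ⟨hw, ew⟩ := hs ⟨(⟨z, hz.1⟩, w), hp⟩ hz.2
    exact ew.symm

/-- The comparison map. -/
noncomputable def cmp : L ⟶ psh (P L) (Over.mk (𝟙 S)) where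
  app V := AddCommGrpCat.ofHom
    { toFun := fun s => ofSec (T := sub (Over.mk (𝟙 S)) V.unop) (fun z => z.2) s
      map_zero' := by
        apply Subtype.ext
        funext p
        exact map_zero _
      map_add' := fun a b => by
        apply Subtype.ext
        funext p
        exact map_add _ _ _ }
  naturality V V' i := by
    ext s
    apply Subtype.ext
    funext p
    exact TopCat.Presheaf.germ_res_apply L i.unop _ _ s

instance : Presheaf.IsLocallyInjective (Opens.grothendieckTopology S) (cmp L) where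
  equalizerSieve_mem {X} x y h z hz := by
    have h1 := congr_arg (fun a : (psh (P L) (Over.mk (𝟙 S))).obj X => a.1 ⟨(⟨z, hz⟩, z), rfl⟩) h
    obtain ⟨V', hV', i1, i2, e'⟩ := TopCat.Presheaf.germ_eq L z hz hz x y h1
    have hi : i1 = i2 := Subsingleton.elim _ _
    subst hi
    exact ⟨V', i1, e', hV'⟩

instance : Presheaf.IsLocallySurjective (Opens.grothendieckTopology S) (cmp L) where
  imageSieve_mem {X} b z hz := by
    obtain ⟨W, hW, V, s, hs⟩ := b.2 ⟨z, hz⟩
    have hle : im (Over.mk (𝟙 S)) X W ≤ X := fun y hy => hy.1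
    have hle' : im (Over.mk (𝟙 S)) X W ≤ V := fun y hy => by
      obtain ⟨hz, -⟩ := hs ⟨(⟨y, hy.1⟩, y), rfl⟩ hy.2
      exact hz
    refine ⟨im (Over.mk (𝟙 S)) X W, homOfLE hle, ⟨L.map (homOfLE hle').op s, ?_⟩, ⟨hz, hW⟩⟩
    apply Subtype.ext
    funext p
    obtain ⟨⟨⟨z, hz⟩, w⟩, hp⟩ := p
    obtain ⟨hw, ew⟩ := hs ⟨(⟨z, hz.1⟩, w), hp⟩ hz.2
    refine Eq.trans ?_ ew.symm
    exact TopCat.Presheaf.germ_res_apply L (homOfLE hle') _ _ s

/-- The cartesian presheaf on spaces over `S` attached to an abelian sheaf on `S`. -/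
theorem exists_cart (L : Sheaf (Opens.grothendieckTopology S) AddCommGrpCat.{u}) :
    ∃ (P : (Over S)ᵒᵖ ⥤ AddCommGrpCat.{u}), IsCart P ∧
      Nonempty ((presheafToSheaf (Opens.grothendieckTopology S) AddCommGrpCat.{u}).obj
        (psh P (Over.mk (𝟙 S))) ≅ L) := by
  refine ⟨P L.obj, isCart L.obj, ?_⟩
  have h1 : (Opens.grothendieckTopology S).W (cmp L.obj) :=
    GrothendieckTopology.W_of_isLocallyBijective (J := Opens.grothendieckTopology S) (cmp L.obj)
  rw [GrothendieckTopology.W_iff] at h1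
  exact ⟨(asIso ((presheafToSheaf (Opens.grothendieckTopology S) AddCommGrpCat.{u}).map (cmp L.obj))).symm ≪≫
    (sheafificationIso L).symm⟩

end K753.Cart
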